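import Cfsg.Prelude.Def_Blocks
import Cfsg.Prelude.Def_LieTypeChar
import Cfsg.Prelude.Def_Classification2

/-!
# LV (S4598): height zero in the principal block for abelian Sylow subgroups; the rows

* `HZ0 p M G`: every member of the principal block has degree prime to `p`;
* `AbS p G`: the Sylow `p`-subgroups of `G` are abelian;
* `Row p K`: `HZ0` for the simple groups in the family `K` whose Sylow `p`-subgroups are abelian, not cyclic and of order
  at least `p ^ 3`;
* the families over fields of order prime to `p`, `Lie p` (the rows of Lie type in cross characteristic), `Easy p`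
  (the others) and the case distinction `row_all`.
-/

set_option autoImplicit false

namespace Cfsg.Agent.LV

open Cfsg

universe u

/-- every member of the principal block has degree prime to `p` -/
def HZ0 (p : ℕ) (M : Ideal AlgInt) (G : Type u) [Group G] : Prop :=
  ∀ χ : IrrCharacter G, χ ∈ principalBlock M G → ¬ p ∣ charDegree (χ : G → ℂ)

/-- the Sylow `p`-subgroups are abelian -/
def AbS (p : ℕ) (G : Type u) [Group G] : Prop :=
  ∀ P : Sylow p G, IsMulCommutative ↥(P : Subgroup G)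

/-- A family of groups. -/
abbrev Fam : Type 1 := (S : Type) → [Group S] → Prop

/-- height zero for the simple groups in `K` with abelian Sylow `p`-subgroups -/
def Row0 (p : ℕ) (K : Fam) : Prop :=
  ∀ (M : Ideal AlgInt), IsPModular p M → ∀ (S : Type) [Group S] [Finite S], IsSimpleGroup S → ¬ IsMulCommutative S →
    K S → AbS p S → HZ0 p M S

/-- height zero for the simple groups in `K` whose Sylow `p`-subgroups are abelian, of order at least `p ^ 3` and not
cyclic -/
def Row (p : ℕ) (K : Fam) : Prop :=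
  ∀ (M : Ideal AlgInt), IsPModular p M → ∀ (S : Type) [Group S] [Finite S], IsSimpleGroup S → ¬ IsMulCommutative S →
    K S → AbS p S → p ^ 3 ∣ Nat.card S → (∀ P : Sylow p S, ¬ IsCyclic ↥(P : Subgroup S)) → HZ0 p M S

theorem Row0.row {p : ℕ} {K : Fam} (h : Row0 p K) : Row p K :=
  fun M hM S _ _ h1 h2 h3 h4 _ _ => h M hM S h1 h2 h3 h4

theorem Row.mono {p : ℕ} {K L : Fam} (h : Row p L) (hKL : ∀ (S : Type) [Group S], K S → L S) : Row p K :=
  fun M hM S _ _ h1 h2 h3 => h M hM S h1 h2 (hKL _ h3)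

theorem Row.or {p : ℕ} {K L : Fam} (h : Row p K) (h' : Row p L) : Row p fun S _ => K S ∨ L S :=
  fun M hM S _ _ h1 h2 h3 => h3.elim (h M hM S h1 h2) (h' M hM S h1 h2)

/-! ### the families over fields of order prime to `p` -/

/-- `PSL_n(q)`, `p ∤ q` -/
def PslX (p : ℕ) (S : Type) [Group S] : Prop :=
  ∃ (F : Type) (_ : Field F) (_ : Fintype F) (n : ℕ), ¬ p ∣ Fintype.card F ∧
    2 ≤ n ∧ (n = 2 → 4 ≤ Fintype.card F) ∧ Nonempty (S ≃* Matrix.ProjectiveSpecialLinearGroup (Fin n) F)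

/-- `PSU_n(q)`, `p ∤ q` -/
def PsuX (p : ℕ) (S : Type) [Group S] : Prop :=
  ∃ (F : Type) (_ : Field F) (_ : Fintype F) (n q : ℕ), ¬ p ∣ Fintype.card F ∧
    Fintype.card F = q ^ 2 ∧ 3 ≤ n ∧ ¬ (n = 3 ∧ q = 2) ∧ Nonempty (S ≃* PSU n F q)

/-- `PSp_{2m}(q)`, `p ∤ q` -/
def PspX (p : ℕ) (S : Type) [Group S] : Prop :=
  ∃ (F : Type) (_ : Field F) (_ : Fintype F) (m : ℕ), ¬ p ∣ Fintype.card F ∧
    2 ≤ m ∧ (m = 2 → 3 ≤ Fintype.card F) ∧ Nonempty (S ≃* PSp m F)

/-- `PΩ_{2m+1}(q)`, `q` odd, `p ∤ q` -/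
def OddX (p : ℕ) (S : Type) [Group S] : Prop :=
  ∃ (F : Type) (_ : Field F) (_ : Fintype F) (m : ℕ), ¬ p ∣ Fintype.card F ∧
    3 ≤ m ∧ Odd (Fintype.card F) ∧ Nonempty (S ≃* POmega F (quadFormOdd m F))

/-- `PΩ⁺_{2m}(q)`, `p ∤ q` -/
def PlusX (p : ℕ) (S : Type) [Group S] : Prop :=
  ∃ (F : Type) (_ : Field F) (_ : Fintype F) (m : ℕ), ¬ p ∣ Fintype.card F ∧
    4 ≤ m ∧ Nonempty (S ≃* POmega F (quadFormPlus m F))

/-- `PΩ⁻_{2m}(q)`, `p ∤ q` -/
def MinusX (p : ℕ) (S : Type) [Group S] : Prop :=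
  ∃ (F : Type) (_ : Field F) (_ : Fintype F) (m : ℕ) (a b : F), ¬ p ∣ Fintype.card F ∧
    4 ≤ m ∧ (∀ z₁ z₂ : F, z₁ ^ 2 + a * z₁ * z₂ + b * z₂ ^ 2 = 0 → z₁ = 0 ∧ z₂ = 0) ∧
    Nonempty (S ≃* POmega F (quadFormMinus (m - 1) F a b))

/-- the Chevalley group of the datum `D` over a field with at least `c` elements and of order prime to `p` -/
def ChevX (p : ℕ) (D : Lie.ChevalleyDatum) (c : ℕ) (S : Type) [Group S] : Prop :=
  ∃ (F : Type) (_ : Field F) (_ : Fintype F), ¬ p ∣ Fintype.card F ∧ c ≤ Fintype.card F ∧ Nonempty (S ≃* D.group F)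

/-- `²E₆(q)`, `p ∤ q` -/
def TwE6X (p : ℕ) (S : Type) [Group S] : Prop :=
  ∃ (K : Type) (_ : Field K) (_ : Fintype K) (q : ℕ), ¬ p ∣ Fintype.card K ∧ IsPrimePow q ∧
    Fintype.card K = q ^ 2 ∧ Nonempty (S ≃* Lie.twistedE6 K q)

/-- `³D₄(q)`, `p ∤ q` -/
def TwD4X (p : ℕ) (S : Type) [Group S] : Prop :=
  ∃ (K : Type) (_ : Field K) (_ : Fintype K) (q : ℕ), ¬ p ∣ Fintype.card K ∧ IsPrimePow q ∧
    Fintype.card K = q ^ 3 ∧ Nonempty (S ≃* Lie.twistedD4 K q)

/-- the Ree groups `²G₂(q)` for `p ≠ 3` -/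
def ReeX (p : ℕ) (S : Type) [Group S] : Prop := p ≠ 3 ∧ Lie.IsoRee S

/-- The classical rows in cross characteristic. -/
structure Cl (p : ℕ) : Prop where
  psl : Row p (PslX p)
  psu : Row p (PsuX p)
  psp : Row p (PspX p)
  odd : Row p (OddX p)
  plus : Row p (PlusX p)
  minus : Row p (MinusX p)

/-- The exceptional rows in cross characteristic. -/
structure Exc (p : ℕ) : Prop where
  g2 : Row p (ChevX p Lie.chevG2 3)
  f4 : Row p (ChevX p Lie.chevF4 0)
  e6 : Row p (ChevX p Lie.chevE6 0)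
  e7 : Row p (ChevX p Lie.chevE7 0)
  e8 : Row p (ChevX p Lie.chevE8 0)
  tw6 : Row p (TwE6X p)
  tw4 : Row p (TwD4X p)
  tf4 : Row p fun S _ => Lie.Iso2F4 S

/-- The other rows. -/
structure Easy (p : ℕ) : Prop where
  alt : Row p fun S _ => IsAlternating S
  spor : Row p fun S _ => IsSporadicGroup S
  tits : Row p fun S _ => Lie.IsoTits S
  own : Row p fun S _ => IsLieTypeChar p S
  sz : Row p fun S _ => Lie.IsoSuzuki S
  ree : Row p (ReeX p)

theorem char_or (p : ℕ) (hp : p.Prime) (F : Type) [Field F] [Fintype F] : ¬ p ∣ Fintype.card F ∨ CharP F p := by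
  by_cases h : p ∣ Fintype.card F
  · right
    obtain ⟨r, hr⟩ := CharP.exists F
    obtain ⟨n, hn, hc⟩ := FiniteField.card F r
    rw [hc] at h
    obtain rfl : p = r := (Nat.prime_dvd_prime_iff_eq hp hn).1 (hp.dvd_of_dvd_pow h)
    exact hr
  · exact .inl h

theorem row_prime (p : ℕ) : Row p fun S _ => IsPrimeCyclic S := by
  intro M _ S _ _ _ h1 h2
  have : Fact (Nat.card S).Prime := ⟨h2⟩
  have hc : IsCyclic S := isCyclic_of_prime_card rfl
  exact (h1 inferInstance).elim

/-- The rows for all known simple groups. -/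
theorem row_all {p : ℕ} (hp : p.Prime) (E : Easy p) (C : Cl p) (X : Exc p) : Row p fun S _ => IsKnownSimple' S := by
  intro M hM S _ _ hs hn h
  have ex : IsExceptionalChevChar p S → IsLieTypeChar p S :=
    fun h => .inr (.inr (.inr (.inr (.inr (.inr (.inl h))))))
  have tw : IsTwistedE6D4Char p S → IsLieTypeChar p S :=
    fun h => .inr (.inr (.inr (.inr (.inr (.inr (.inr (.inl h)))))))
  have own := E.own M hM S hs hn
  rcases h with h | h | h | h | h | h | h | h | h | h
  · exact row_prime p M hM S hs hn h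
  · exact E.alt M hM S hs hn h
  · obtain ⟨F, _, _, n, h1, h2, h3⟩ := h
    rcases char_or p hp F with h | h
    · exact C.psl M hM S hs hn ⟨F, inferInstance, inferInstance, n, h, h1, h2, h3⟩
    · exact own (.inl ⟨F, inferInstance, inferInstance, h, n, h1, h2, h3⟩)
  · obtain ⟨F, _, _, n, h1, h2, h3⟩ := h
    rcases char_or p hp F with h | h
    · exact C.psp M hM S hs hn ⟨F, inferInstance, inferInstance, n, h, h1, h2, h3⟩
    · exact own (.inr (.inl ⟨F, inferInstance, inferInstance, h, n, h1, h2, h3⟩))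
  · obtain ⟨F, _, _, n, q, h0, h1, h2, h3⟩ := h
    rcases char_or p hp F with h | h
    · exact C.psu M hM S hs hn ⟨F, inferInstance, inferInstance, n, q, h, h0, h1, h2, h3⟩
    · exact own (.inr (.inr (.inl ⟨F, inferInstance, inferInstance, h, n, q, h0, h1, h2, h3⟩)))
  · obtain ⟨F, _, _, n, h1, h2, h3⟩ := h
    rcases char_or p hp F with h | h
    · exact C.odd M hM S hs hn ⟨F, inferInstance, inferInstance, n, h, h1, h2, h3⟩
    · exact own (.inr (.inr (.inr (.inl ⟨F, inferInstance, inferInstance, h, n, h1, h2, h3⟩))))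
  · obtain ⟨F, _, _, n, h1, h3⟩ := h
    rcases char_or p hp F with h | h
    · exact C.plus M hM S hs hn ⟨F, inferInstance, inferInstance, n, h, h1, h3⟩
    · exact own (.inr (.inr (.inr (.inr (.inl ⟨F, inferInstance, inferInstance, h, n, h1, h3⟩)))))
  · obtain ⟨F, _, _, n, a, b, h1, h2, h3⟩ := h
    rcases char_or p hp F with h | h
    · exact C.minus M hM S hs hn ⟨F, inferInstance, inferInstance, n, a, b, h, h1, h2, h3⟩
    · exact own (.inr (.inr (.inr (.inr (.inr (.inl ⟨F, inferInstance, inferInstance, h, n, a, b, h1, h2, h3⟩))))))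
  · rcases h with h | h | h | h | h | h | h | h | h | h | h
    · obtain ⟨F, _, _, h1, h3⟩ := h
      rcases char_or p hp F with h | h
      · exact X.g2 M hM S hs hn ⟨F, inferInstance, inferInstance, h, h1, h3⟩
      · exact own (ex ⟨F, inferInstance, inferInstance, h, .inl ⟨h1, h3⟩⟩)
    · obtain ⟨F, _, _, h3⟩ := h
      rcases char_or p hp F with h | h
      · exact X.f4 M hM S hs hn ⟨F, inferInstance, inferInstance, h, Nat.zero_le _, h3⟩
      · exact own (ex ⟨F, inferInstance, inferInstance, h, .inr (.inl h3)⟩)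
    · obtain ⟨F, _, _, h3⟩ := h
      rcases char_or p hp F with h | h
      · exact X.e6 M hM S hs hn ⟨F, inferInstance, inferInstance, h, Nat.zero_le _, h3⟩
      · exact own (ex ⟨F, inferInstance, inferInstance, h, .inr (.inr (.inl h3))⟩)
    · obtain ⟨F, _, _, h3⟩ := h
      rcases char_or p hp F with h | h
      · exact X.e7 M hM S hs hn ⟨F, inferInstance, inferInstance, h, Nat.zero_le _, h3⟩
      · exact own (ex ⟨F, inferInstance, inferInstance, h, .inr (.inr (.inr (.inl h3)))⟩)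
    · obtain ⟨F, _, _, h3⟩ := h
      rcases char_or p hp F with h | h
      · exact X.e8 M hM S hs hn ⟨F, inferInstance, inferInstance, h, Nat.zero_le _, h3⟩
      · exact own (ex ⟨F, inferInstance, inferInstance, h, .inr (.inr (.inr (.inr h3)))⟩)
    · obtain ⟨F, _, _, q, h1, h2, h3⟩ := h
      rcases char_or p hp F with h | h
      · exact X.tw6 M hM S hs hn ⟨F, inferInstance, inferInstance, q, h, h1, h2, h3⟩
      · exact own (tw ⟨F, inferInstance, inferInstance, h, q, h1, .inl ⟨h2, h3⟩⟩)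
    · obtain ⟨F, _, _, q, h1, h2, h3⟩ := h
      rcases char_or p hp F with h | h
      · exact X.tw4 M hM S hs hn ⟨F, inferInstance, inferInstance, q, h, h1, h2, h3⟩
      · exact own (tw ⟨F, inferInstance, inferInstance, h, q, h1, .inr ⟨h2, h3⟩⟩)
    · exact E.sz M hM S hs hn h
    · by_cases h3 : p = 3
      · exact own (.inr (.inr (.inr (.inr (.inr (.inr (.inr (.inr (.inr (.inr ⟨h3, h⟩))))))))))
      · exact E.ree M hM S hs hn ⟨h3, h⟩
    · exact X.tf4 M hM S hs hn h
    · exact E.tits M hM S hs hn h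
  · exact E.spor M hM S hs hn h

end Cfsg.Agent.LV
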