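import Cfsg.Agent.LV.Red.Back
import Cfsg.Agent.S4710
import Cfsg.Agent.H734.RB.Cyc
import Cfsg.Agent.H700.PrinExt
import Cfsg.Agent.H703.Lat.Basic

/-!
# LV: S4598 from the rows of the simple groups
-/

set_option autoImplicit false

namespace Cfsg.Agent.LV

open Cfsg Subgroup

universe u v

variable {p : ℕ} {M : Ideal AlgInt}

theorem HZ0.of_equiv {G : Type u} {H : Type v} [Group G] [Finite G] [Group H] (e : G ≃* H) (h : HZ0 p M G) :
    HZ0 p M H := by
  have : Finite H := Finite.of_equiv _ e.toEquiv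
  intro θ hθ hd
  refine h _ (H700.PrinExt.mapIrr_mem e hθ) ?_
  have h1 : charDegree (H700.PrinExt.mapIrr e θ : G → ℂ) = charDegree (θ : H → ℂ) := by
    apply deg_eq_of
    change (θ : H → ℂ) (e 1) = _
    rw [map_one]
  rw [h1]
  exact hd

theorem AbS.of_equiv {G : Type u} {H : Type v} [Group G] [Group H] (e : G ≃* H) (h : AbS p G) : AbS p H :=
  h.of_inj e.symm.toMonoidHom e.symm.injective

/-- Sylow subgroups of order at most `p ^ 2` -/
theorem hz_of_small {G : Type u} [Group G] [Finite G] [hp : Fact p.Prime] (hM : IsPModular p M)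
    (h : ¬ p ^ 3 ∣ Nat.card G) : HZ0 p M G := by
  have := hM.2.1.isPrime
  intro χ hχ hd
  have h1 : blockDefect p (principalBlock M G) ≤ 2 := by
    refine le_trans (Nat.sub_le _ _) ?_
    by_contra h2
    exact h ((hp.out.pow_dvd_iff_le_factorization Nat.card_pos.ne').2 (by omega))
  obtain ⟨h2, h3⟩ := (S4710.result p M hM _ H703.Lat.isPBlock_principal _ rfl).2 χ hχ
  rw [S4736.blockHeight_principal] at h2 h3
  have h4 := hp.out.factorization_pos_of_dvd (deg_pos χ).ne' hd
  omega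

/-- cyclic Sylow subgroups -/
theorem hz_of_cyclic {G : Type u} [Group G] [Finite G] [hp : Fact p.Prime] (hM : IsPModular p M) (P : Sylow p G)
    (h : IsCyclic ↥(P : Subgroup G)) : HZ0 p M G := by
  by_cases h3 : p ^ 3 ∣ Nat.card G
  · intro χ hχ
    refine H734.RB.not_dvd hM P h ?_ hχ
    rw [P.card_eq_multiplicity]
    have h1 := (hp.out.pow_dvd_iff_le_factorization Nat.card_pos.ne').1 h3
    exact (Nat.one_lt_pow (by omega) hp.out.one_lt).ne'
  · exact hz_of_small hM h3

theorem Row.row0 {K : Fam} (hp : p.Prime) (h : Row p K) : Row0 p K := by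
  have : Fact p.Prime := ⟨hp⟩
  intro M hM S _ _ h1 h2 h3 h4
  by_cases h5 : p ^ 3 ∣ Nat.card S
  · by_cases h6 : ∃ P : Sylow p S, IsCyclic ↥(P : Subgroup S)
    · obtain ⟨P, hP⟩ := h6
      exact hz_of_cyclic hM P hP
    · exact h M hM S h1 h2 h3 h4 h5 fun P hP => h6 ⟨P, hP⟩
  · exact hz_of_small hM h5

/-- **Height zero in the principal block for all groups with abelian Sylow subgroups, from the rows.** -/
theorem hz_of_row (hp : p.Prime) (h2 : p ≠ 2) (h : Row p fun S _ => IsKnownSimple' S) (hM : IsPModular p M)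
    (G : Type u) [Group G] [Finite G] (hG : AbS p G) : HZ0 p M G := by
  have : Fact p.Prime := ⟨hp⟩
  let e : Shrink.{0} G ≃* G := Shrink.mulEquiv
  have : Finite (Shrink.{0} G) := Finite.of_equiv _ e.symm.toEquiv
  refine HZ0.of_equiv e (hz_of_simple h2 hM ?_ _ _ rfl (hG.of_equiv e.symm))
  intro S _ _ hs hn hS
  exact h.row0 hp M hM S hs hn S0000.result hS

/-- **S4598 from the rows.** -/
theorem main_of_row (h3 : Row 3 fun S _ => IsKnownSimple' S) (h5 : Row 5 fun S _ => IsKnownSimple' S)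
    {G : Type u} [Group G] [Finite G] (π : Set ℕ) (hπ : ∀ p ∈ π, p.Prime) (M : ℕ → Ideal Cfsg.AlgInt)
    (hM : ∀ p ∈ π, Cfsg.IsPModular p (M p)) :
    (∃ H : Subgroup G, Cfsg.IsPiHall π H ∧ IsMulCommutative H) ↔
      ((∀ p ∈ π, ∀ x : G, (∃ k : ℕ, orderOf x = p ^ k) → ∀ q ∈ π, ¬ q ∣ (Subgroup.centralizer ({x} : Set G)).index) ∧
       (∀ p ∈ π, (p = 3 ∨ p = 5) → ¬ (3 ∈ π ∧ 5 ∈ π) →
          ∀ χ : Cfsg.IrrCharacter G, χ ∈ Cfsg.principalBlock (M p) G → ¬ p ∣ Cfsg.charDegree (χ : G → ℂ))) := by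
  refine ⟨fun ⟨H, hH, hc⟩ => ⟨?_, ?_⟩, fun h => back π hπ M hM h.1 h.2⟩
  · intro p hp x hx q hq
    by_cases hpq : p = q
    · subst hpq
      have : Fact p.Prime := ⟨hπ p hp⟩
      have hA : AbS p G := abS_of_hall (hH.2 p (hπ p hp) hp) hc
      refine H573.PCent.of_sylow (fun y hy => ?_) x hx
      obtain ⟨k, hk⟩ := hy
      have h1 : IsPGroup p (zpowers y) := IsPGroup.of_card (n := k) (by rw [Nat.card_zpowers, hk])
      obtain ⟨P, hP⟩ := h1.exists_le_sylow
      exact ⟨P, fun z hz => abS_iff.1 hA P z hz y (hP (mem_zpowers y))⟩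
    · have hn : Group.IsNilpotent H := by
        let _ : CommGroup H := { (inferInstance : Group H) with mul_comm := hc.is_comm.comm }
        exact CommGroup.isNilpotent
      exact H630.NH.cond_of_hall hπ H hH hn p hp q hq hpq x hx
  · intro p hp h35 _
    have : Fact p.Prime := ⟨hπ p hp⟩
    have hA : AbS p G := abS_of_hall (hH.2 p (hπ p hp) hp) hc
    rcases h35 with rfl | rfl
    · exact hz_of_row Nat.prime_three (by norm_num) h3 (hM 3 hp) G hA
    · exact hz_of_row Nat.prime_five (by norm_num) h5 (hM 5 hp) G hA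

end Cfsg.Agent.LV
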