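import Cfsg.Agent.LV.Red.Defs
import Cfsg.Agent.H921.EB515.OddAbel
import Cfsg.Agent.S1937
import Cfsg.Agent.H506.Perf
import Cfsg.Agent.H573.PCent

/-!
# LV: abelian Sylow `p`-subgroups give height zero in the principal block, from the simple groups (`p` odd)
-/

set_option autoImplicit false

namespace Cfsg.Agent.LV

open Cfsg Subgroup
open scoped commutatorElement
open Cfsg.Agent.Characters.Core

universe u

variable {p : ℕ} {M : Ideal AlgInt}

theorem deg_pos {G : Type u} [Group G] [Finite G] (χ : IrrCharacter G) : 0 < charDegree (χ : G → ℂ) := by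
  rw [Nat.pos_iff_ne_zero]
  intro h
  apply isIrr_apply_one_ne_zero χ.2
  rw [Cfsg.Agent.Blocks.Basic.irr_one_eq_charDegree χ.2, h, Nat.cast_zero]

theorem deg_eq_of {G H : Type*} [Group G] [Finite G] [Group H] [Finite H] {χ : IrrCharacter G} {ψ : IrrCharacter H}
    (h : (χ : G → ℂ) 1 = (ψ : H → ℂ) 1) : charDegree (χ : G → ℂ) = charDegree (ψ : H → ℂ) := by
  rw [Cfsg.Agent.Blocks.Basic.irr_one_eq_charDegree χ.2, Cfsg.Agent.Blocks.Basic.irr_one_eq_charDegree ψ.2] at h
  exact_mod_cast h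

theorem hz_of_comm {G : Type u} [Group G] [Finite G] (hp : p.Prime) (h : ∀ a b : G, a * b = b * a) : HZ0 p M G := by
  intro χ _ hd
  have h4 := Cfsg.Agent.Characters.CCBasic.irr_apply_one_of_comm h χ.2
  rw [Cfsg.Agent.Blocks.Basic.irr_one_eq_charDegree χ.2] at h4
  have h5 : charDegree (χ : G → ℂ) = 1 := by exact_mod_cast h4
  rw [h5] at hd
  exact hp.one_lt.ne' (Nat.dvd_one.1 hd)

theorem hz_of_index {G : Type u} [Group G] [Finite G] [hp : Fact p.Prime] (hM : IsPModular p M) (N : Subgroup G)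
    [N.Normal] (hi : ¬ p ∣ N.index) (h : HZ0 p M N) : HZ0 p M G := by
  classical
  have := Fintype.ofFinite G
  have := Fintype.ofFinite N
  intro χ hχ hd
  obtain ⟨θ, hθ⟩ := H921.EB515.exists_under N χ
  have h1 := h θ (Cfsg.Agent.H611.CoverPrincipal.mem_principalBlock_of_over p hM N χ θ hθ hχ)
  obtain ⟨⟨c, hc⟩, h3⟩ := Cfsg.Agent.S0887.result N (χ : G → ℂ) χ.2 (θ : N → ℂ) θ.2 hθ _ _
    (Cfsg.Agent.Blocks.Basic.irr_one_eq_charDegree χ.2) (Cfsg.Agent.Blocks.Basic.irr_one_eq_charDegree θ.2)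
  rw [hc] at h3 hd
  rw [Nat.mul_div_cancel_left _ (deg_pos θ)] at h3
  rcases (Nat.Prime.dvd_mul hp.out).1 hd with h4 | h4
  · exact h1 h4
  · exact hi (h4.trans h3)

theorem hz_of_prod {G : Type u} [Group G] [Finite G] [hp : Fact p.Prime] (hM : IsPModular p M) (A B : Subgroup G)
    [A.Normal] [B.Normal] (hcomm : ∀ a ∈ A, ∀ b ∈ B, a * b = b * a) (hgen : ∀ g : G, ∃ a ∈ A, ∃ b ∈ B, a * b = g)
    (hA : HZ0 p M A) (hB : HZ0 p M B) : HZ0 p M G := by
  classical
  have := Fintype.ofFinite G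
  have := Fintype.ofFinite A
  have := Fintype.ofFinite B
  intro χ hχ hd
  let f : A × B →* G := MonoidHom.noncommCoprod A.subtype B.subtype (fun a b => hcomm a a.2 b b.2)
  have hf : ∀ x, f x = x.1 * x.2 := fun x => rfl
  have hsurj : Function.Surjective f := fun g => by
    obtain ⟨a, ha, b, hb, h⟩ := hgen g
    exact ⟨(⟨a, ha⟩, ⟨b, hb⟩), h⟩
  have h1 : IsIrrCharacter (A × B) ((χ : G → ℂ) ∘ f) := isIrr_comp f hsurj χ.2
  obtain ⟨φ, ψ, hφ, hψ, h2⟩ := (Cfsg.Agent.S0188.result _).1 h1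
  have hφ1 := Cfsg.Agent.Blocks.Basic.irr_one_eq_charDegree hφ
  have hψ1 := Cfsg.Agent.Blocks.Basic.irr_one_eq_charDegree hψ
  have h3 : ∀ a : A, (χ : G → ℂ) a = ψ 1 * φ a := by
    intro a
    have h := congrFun h2 (a, 1)
    simp only [Function.comp_apply, hf, OneMemClass.coe_one, mul_one] at h
    rw [h, mul_comm]
  have h4 : ∀ b : B, (χ : G → ℂ) b = φ 1 * ψ b := by
    intro b
    have h := congrFun h2 (1, b)
    simp only [Function.comp_apply, hf, OneMemClass.coe_one, one_mul] at h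
    exact h
  have h5 : classInner (fun a : A => (χ : G → ℂ) a) φ ≠ 0 := by
    have e : (fun a : A => (χ : G → ℂ) a) = (ψ 1) • φ := by
      funext a; rw [h3]; rfl
    rw [e, Cfsg.Agent.Characters.Core.classInner_smul_left, classInner_irr_self hφ, mul_one]
    exact isIrr_apply_one_ne_zero hψ
  have h6 : classInner (fun b : B => (χ : G → ℂ) b) ψ ≠ 0 := by
    have e : (fun b : B => (χ : G → ℂ) b) = (φ 1) • ψ := by
      funext b; rw [h4]; rfl
    rw [e, Cfsg.Agent.Characters.Core.classInner_smul_left, classInner_irr_self hψ, mul_one]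
    exact isIrr_apply_one_ne_zero hφ
  have h7 := hA ⟨φ, hφ⟩ (Cfsg.Agent.H611.CoverPrincipal.mem_principalBlock_of_over p hM A χ ⟨φ, hφ⟩ h5 hχ)
  have h8 := hB ⟨ψ, hψ⟩ (Cfsg.Agent.H611.CoverPrincipal.mem_principalBlock_of_over p hM B χ ⟨ψ, hψ⟩ h6 hχ)
  have h9 : charDegree (χ : G → ℂ) = charDegree φ * charDegree ψ := by
    have h := h3 1
    rw [OneMemClass.coe_one, Cfsg.Agent.Blocks.Basic.irr_one_eq_charDegree χ.2, hφ1, hψ1] at h
    have h' : (charDegree (χ : G → ℂ) : ℂ) = ((charDegree ψ * charDegree φ : ℕ) : ℂ) := by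
      rw [h]; push_cast; ring
    rw [Nat.cast_inj.1 h', mul_comm]
  rw [h9] at hd
  rcases (Nat.Prime.dvd_mul hp.out).1 hd with h | h
  · exact h7 h
  · exact h8 h

theorem hz_of_quot {G : Type u} [Group G] [Finite G] [Fact p.Prime] (hM : IsPModular p M) (N : Subgroup G) [N.Normal]
    (hN : ¬ p ∣ Nat.card N) (h : HZ0 p M (G ⧸ N)) : HZ0 p M G := by
  intro χ hχ
  obtain ⟨ψ, hψ, hψχ⟩ := (Cfsg.Agent.S4735.bijOn_infl hM N hN).surjOn hχ
  have h3 : charDegree (χ : G → ℂ) = charDegree (ψ : G ⧸ N → ℂ) := by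
    apply deg_eq_of
    rw [← hψχ, Cfsg.Agent.S4735.infl_apply]
    rfl
  rw [h3]
  exact h ψ hψ

theorem abS_iff {G : Type u} [Group G] : AbS p G ↔
    ∀ P : Sylow p G, ∀ a ∈ (P : Subgroup G), ∀ b ∈ (P : Subgroup G), a * b = b * a :=
  ⟨fun h P a ha b hb => congrArg Subtype.val ((h P).is_comm.comm ⟨a, ha⟩ ⟨b, hb⟩),
    fun h P => ⟨⟨fun a b => Subtype.ext (h P a a.2 b b.2)⟩⟩⟩

theorem abS_of_one {G : Type u} [Group G] [Finite G] [Fact p.Prime] (P : Sylow p G)
    (h : ∀ a ∈ (P : Subgroup G), ∀ b ∈ (P : Subgroup G), a * b = b * a) : AbS p G := by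
  rw [abS_iff]
  intro Q a ha b hb
  obtain ⟨g, hg⟩ := MulAction.exists_smul_eq G P Q
  have hmem : ∀ x ∈ (Q : Subgroup G), g⁻¹ * x * g ∈ (P : Subgroup G) := by
    intro x hx
    rw [← hg] at hx
    rw [Sylow.coe_subgroup_smul, mem_pointwise_smul_iff_inv_smul_mem] at hx
    simpa [MulAut.smul_def] using hx
  have h2 := h _ (hmem a ha) _ (hmem b hb)
  have h4 : g * ((g⁻¹ * a * g) * (g⁻¹ * b * g)) * g⁻¹ = a * b := by group
  have h5 : g * ((g⁻¹ * b * g) * (g⁻¹ * a * g)) * g⁻¹ = b * a := by group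
  rw [← h4, ← h5, h2]

theorem AbS.of_inj {G H : Type*} [Group G] [Group H] (h : AbS p G) (f : H →* G) (hf : Function.Injective f) :
    AbS p H := by
  rw [abS_iff] at h ⊢
  intro T a ha b hb
  have h1 : IsPGroup p ((T : Subgroup H).map f) := T.2.map _
  obtain ⟨Q, hQ⟩ := h1.exists_le_sylow
  apply hf
  rw [map_mul, map_mul]
  exact h Q _ (hQ ⟨a, ha, rfl⟩) _ (hQ ⟨b, hb, rfl⟩)

theorem AbS.sub {G : Type u} [Group G] (h : AbS p G) (H : Subgroup G) : AbS p H :=
  h.of_inj H.subtype Subtype.val_injective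

theorem AbS.of_surj {G H : Type*} [Group G] [Finite G] [Group H] [Finite H] [Fact p.Prime] (h : AbS p G) (f : G →* H)
    (hf : Function.Surjective f) : AbS p H := by
  obtain ⟨S⟩ : Nonempty (Sylow p G) := inferInstance
  refine abS_of_one (S.mapSurjective hf) ?_
  intro a ha b hb
  obtain ⟨a', ha', rfl⟩ := ha
  obtain ⟨b', hb', rfl⟩ := hb
  rw [← map_mul, abS_iff.1 h S a' ha' b' hb', map_mul]

theorem core_sub {G : Type u} [Group G] [Finite G] (hO : pPrimeCore p G = ⊥) (N : Subgroup G) (hN : N.Normal) :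
    pPrimeCore p N = ⊥ := by
  have h := Lib.Cores.map_subtype_pPrimeCore p hN
  rw [hO, inf_bot_eq] at h
  exact (Subgroup.map_eq_bot_iff_of_injective _ Subtype.val_injective).1 h

/-- an abelian Sylow subgroup induces inner automorphisms on a normal subgroup -/
theorem sylow_le {G : Type u} [Group G] [Finite G] [Fact p.Prime] (hp : p ≠ 2) (hO : pPrimeCore p G = ⊥)
    (h : AbS p G) (N : Subgroup G) [hN : N.Normal] (P : Sylow p G) :
    (P : Subgroup G) ≤ N ⊔ centralizer (N : Set G) := by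
  intro x hx
  have hQ : IsPGroup p ((P : Subgroup G).subgroupOf N) := P.2.comap_of_injective _ Subtype.val_injective
  have hi : ¬ p ∣ ((P : Subgroup G).subgroupOf N).index := H573.not_dvd_relIndex_normal P N
  obtain ⟨k, hk⟩ := IsPGroup.iff_orderOf.1 P.2 ⟨x, hx⟩
  rw [Subgroup.orderOf_mk] at hk
  have ho : ∃ j : ℕ, orderOf (MulAut.conjNormal (H := N) x) = p ^ j := by
    have h1 : orderOf (MulAut.conjNormal (H := N) x) ∣ p ^ k := by
      rw [← hk]; exact orderOf_map_dvd _ _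
    obtain ⟨j, -, hj⟩ := (Nat.dvd_prime_pow Fact.out).1 h1
    exact ⟨j, hj⟩
  obtain ⟨g, hg⟩ := S1937.result hp (core_sub hO N hN) (hQ.toSylow hi) (MulAut.conjNormal x) ho (by
    intro y hy
    apply Subtype.ext
    rw [MulAut.conjNormal_apply]
    have h1 : (y : G) ∈ (P : Subgroup G) := hy
    rw [abS_iff.1 h P x hx y h1, mul_inv_cancel_right])
  have h1 : (g : G)⁻¹ * x ∈ centralizer (N : Set G) := by
    rw [mem_centralizer_iff]
    intro y hy
    have h2 := congrArg Subtype.val (hg ⟨y, hy⟩)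
    rw [MulAut.conjNormal_apply] at h2
    simp only [Subgroup.coe_mul, InvMemClass.coe_inv] at h2
    calc y * ((g : G)⁻¹ * x) = (g : G)⁻¹ * ((g : G) * y * (g : G)⁻¹) * x := by group
      _ = (g : G)⁻¹ * (x * y * x⁻¹) * x := by rw [h2]
      _ = (g : G)⁻¹ * x * y := by group
  have h2 : x = (g : G) * ((g : G)⁻¹ * x) := by group
  rw [h2]
  exact Subgroup.mul_mem_sup g.2 h1

/-- central elements lie in every Sylow subgroup when `O_{p'} = 1` -/
theorem center_le {G : Type u} [Group G] [Finite G] [hp : Fact p.Prime] (hO : pPrimeCore p G = ⊥) (P : Sylow p G)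
    {z : G} (hz : z ∈ center G) : z ∈ (P : Subgroup G) := by
  refine H573.mem_sylow_of_commute P ?_ (fun y _ => mem_center_iff.1 hz y)
  obtain ⟨k, m, hm, h⟩ := Nat.exists_eq_pow_mul_and_not_dvd (orderOf_pos z).ne' p hp.out.ne_one
  have h1 : orderOf (z ^ p ^ k) = m := by
    rw [orderOf_pow' _ (pow_pos hp.out.pos k).ne', h, Nat.gcd_eq_right (Dvd.intro _ rfl),
      Nat.mul_div_cancel_left _ (pow_pos hp.out.pos k)]
  have hc : zpowers (z ^ p ^ k) ≤ center G := zpowers_le.2 (Subgroup.pow_mem _ hz _)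
  have hn : (zpowers (z ^ p ^ k)).Normal :=
    ⟨fun n hn g => by rw [mem_center_iff.1 (hc hn) g, mul_inv_cancel_right]; exact hn⟩
  have h2 : zpowers (z ^ p ^ k) ≤ pPrimeCore p G := by
    refine Lib.Cores.le_pPrimeCore hn ?_
    rw [Nat.card_zpowers, h1]
    exact ((Nat.Prime.coprime_iff_not_dvd hp.out).2 hm).symm
  rw [hO, le_bot_iff, zpowers_eq_bot] at h2
  rw [h2, orderOf_one] at h1
  exact ⟨k, by rw [h, ← h1, mul_one]⟩

/-- a proper normal subgroup which is not central -/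
theorem exists_noncentral {G : Type u} [Group G] [Finite G] [Fact p.Prime] (hO : pPrimeCore p G = ⊥) (h : AbS p G)
    (hn : ¬ ∀ a b : G, a * b = b * a) (hs : ¬ IsSimpleGroup G) :
    ∃ N : Subgroup G, N.Normal ∧ N ≠ ⊤ ∧ centralizer (N : Set G) ≠ ⊤ := by
  by_contra hcon
  push Not at hcon
  obtain ⟨P⟩ : Nonempty (Sylow p G) := inferInstance
  have key : ∀ z ∈ center G, z ∈ commutator G → z = 1 := fun z hz hd =>
    H506.Perf.eq_one_of_central P (abS_iff.1 h P) (center_le hO P hz) hz hd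
  have hcent : ∀ N : Subgroup G, N.Normal → N ≠ ⊤ → N ≤ center G := by
    intro N hN hne z hz
    rw [mem_center_iff]
    intro g
    have h1 : g ∈ centralizer (N : Set G) := by rw [hcon N hN hne]; trivial
    exact (mem_centralizer_iff.1 h1 z hz).symm
  by_cases hd : commutator G = ⊤
  · apply hs
    have hnt : Nontrivial G := by
      by_contra h1
      rw [not_nontrivial_iff_subsingleton] at h1
      exact hn fun a b => Subsingleton.elim _ _
    refine ⟨fun N hN => ?_⟩
    by_cases h1 : N = ⊤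
    · exact .inr h1
    · left
      rw [eq_bot_iff]
      intro z hz
      exact key z (hcent N hN h1 hz) (by rw [hd]; trivial)
  · apply hn
    intro a b
    have h1 : ⁅a, b⁆ ∈ commutator G := commutator_mem_commutator (mem_top a) (mem_top b)
    have h2 := key _ (hcent _ inferInstance hd h1) h1
    exact commutatorElement_eq_one_iff_mul_comm.1 h2

theorem card_lt_of_ne_top {G : Type u} [Group G] [Finite G] {N : Subgroup G} (hN : N ≠ ⊤) : Nat.card N < Nat.card G :=
  lt_of_le_of_ne (Subgroup.card_le_card_group N) fun h => hN (Subgroup.eq_top_of_card_eq N h)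

theorem card_quot_lt {G : Type u} [Group G] [Finite G] {N : Subgroup G} (hN : N ≠ ⊥) :
    Nat.card (G ⧸ N) < Nat.card G := by
  rw [Subgroup.card_eq_card_quotient_mul_card_subgroup N]
  exact lt_mul_of_one_lt_right Nat.card_pos ((Subgroup.one_lt_card_iff_ne_bot N).2 hN)

/-- **height zero from the simple groups** -/
theorem hz_of_simple [Fact p.Prime] (hp : p ≠ 2) (hM : IsPModular p M)
    (hrow : ∀ (S : Type u) [Group S] [Finite S], IsSimpleGroup S → ¬ IsMulCommutative S → AbS p S → HZ0 p M S) :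
    ∀ (n : ℕ) (G : Type u) [Group G] [Finite G], Nat.card G = n → AbS p G → HZ0 p M G := by
  intro n
  induction n using Nat.strong_induction_on with
  | _ n ih =>
  intro G _ _ hn hS
  have ih' : ∀ N : Subgroup G, N ≠ ⊤ → HZ0 p M N := fun N hN =>
    ih _ (hn ▸ card_lt_of_ne_top hN) N rfl (hS.sub N)
  by_cases hO : pPrimeCore p G = ⊥
  · by_cases hc : ∀ a b : G, a * b = b * a
    · exact hz_of_comm Fact.out hc
    by_cases hs : IsSimpleGroup G
    · exact hrow G hs (fun h => hc h.is_comm.comm) hS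
    obtain ⟨N, hN, h1, h2⟩ := exists_noncentral hO hS hc hs
    obtain ⟨P⟩ : Nonempty (Sylow p G) := inferInstance
    by_cases h3 : N ⊔ centralizer (N : Set G) = ⊤
    · refine hz_of_prod hM N (centralizer (N : Set G)) (fun a ha b hb => mem_centralizer_iff.1 hb a ha) ?_
        (ih' _ h1) (ih' _ h2)
      intro g
      have hg : g ∈ N ⊔ centralizer (N : Set G) := by rw [h3]; trivial
      exact Subgroup.mem_sup_of_normal_left.1 hg
    · exact hz_of_index hM _ (H573.not_dvd_index_of_sylow_le P (sylow_le hp hO hS N P)) (ih' _ h3)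
  · have hn' : (pPrimeCore p G).Normal := Lib.Cores.pPrimeCore_normal p
    have hco : (Nat.card (pPrimeCore p G)).Coprime p := Lib.Cores.pPrimeCore_coprime p
    refine hz_of_quot hM (pPrimeCore p G) ((Nat.Prime.coprime_iff_not_dvd Fact.out).1 hco.symm) ?_
    exact ih _ (hn ▸ card_quot_lt hO) _ rfl (hS.of_surj _ (QuotientGroup.mk'_surjective _))

end Cfsg.Agent.LV
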