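import Cfsg.Agent.LV.Red.Main
import Cfsg.Agent.S2299
import Cfsg.Agent.S0276
import Cfsg.Agent.H41.EB515.Rows
import Cfsg.Agent.H858.NRowLie
import Cfsg.Agent.H371.HT.Three
import Cfsg.Agent.H315.RatB0.SzRee
import Cfsg.Agent.OddRank.SzTits

/-!
# LV: defining characteristic, Suzuki and small Ree groups, and the empty exceptional rows
-/

set_option autoImplicit false

namespace Cfsg.Agent.LV

open Cfsg Subgroup

variable {p : ℕ} {M : Ideal AlgInt}

theorem hz_sl2 [hp : Fact p.Prime] (h2 : p ≠ 2) (hM : IsPModular p M) (F : Type) [Field F] [Fintype F] [CharP F p] :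
    HZ0 p M (Matrix.SpecialLinearGroup (Fin 2) F) := by
  classical
  obtain ⟨n, -, hn⟩ := FiniteField.card F p
  have hodd : Odd (Fintype.card F) := by
    rw [hn]; exact (hp.out.odd_of_ne_two h2).pow
  have hq : p ∣ Fintype.card F := by rw [hn]; exact dvd_pow_self p n.ne_zero
  have h1 : 1 ≤ Fintype.card F := Fintype.card_pos
  have ha : ¬ p ∣ Fintype.card F + 1 := fun h => hp.out.one_lt.ne' (Nat.dvd_one.1 ((Nat.dvd_add_right hq).1 h))
  have hb : ¬ p ∣ Fintype.card F - 1 := fun h => by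
    have h3 := Nat.dvd_sub hq h
    rw [Nat.sub_sub_self h1] at h3
    exact hp.out.one_lt.ne' (Nat.dvd_one.1 h3)
  obtain ⟨c, hc⟩ := hodd
  intro χ hχ hd
  have h3 := (S2299.result (F := F) ⟨c, hc⟩).1 _ χ.2
  rw [Cfsg.Agent.Blocks.Basic.irr_one_eq_charDegree χ.2] at h3
  rcases h3 with h | h | h | h | h | h
  · have h4 : charDegree (χ : Matrix.SpecialLinearGroup (Fin 2) F → ℂ) = 1 := by exact_mod_cast h
    rw [h4] at hd
    exact hp.out.one_lt.ne' (Nat.dvd_one.1 hd)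
  · have h4 : charDegree (χ : Matrix.SpecialLinearGroup (Fin 2) F → ℂ) = Fintype.card F := by exact_mod_cast h
    have h5 := H41.EB515.not_defect_zero hM hχ hd
    rw [h4, S0276.card_sl_two rfl, Nat.mul_div_cancel_left _ h1, ← one_pow 2, Nat.sq_sub_sq] at h5
    exact ((Nat.Prime.dvd_mul hp.out).1 h5).elim ha hb
  · have h4 : charDegree (χ : Matrix.SpecialLinearGroup (Fin 2) F → ℂ) = Fintype.card F + 1 := by exact_mod_cast h
    exact ha (h4 ▸ hd)
  · have h4 : charDegree (χ : Matrix.SpecialLinearGroup (Fin 2) F → ℂ) = Fintype.card F - 1 := by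
      rw [← Nat.cast_one, ← Nat.cast_sub h1] at h
      exact_mod_cast h
    exact hb (h4 ▸ hd)
  · have h4 := Nat.cast_inj.1 h
    rw [h4] at hd
    exact ha (hd.trans ⟨2, by omega⟩)
  · have h4 := Nat.cast_inj.1 h
    rw [h4] at hd
    exact hb (hd.trans ⟨2, by omega⟩)

/-- **the defining characteristic** -/
theorem rowOwn (hp : p.Prime) (h2 : p ≠ 2) : Row p fun S _ => IsLieTypeChar p S := by
  have : Fact p.Prime := ⟨hp⟩
  intro M hM S _ _ hs hn h hA _ _
  by_cases hL : ∃ (F : Type) (_ : Field F) (_ : Fintype F), CharP F p ∧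
      Nonempty (S ≃* Matrix.ProjectiveSpecialLinearGroup (Fin 2) F)
  · obtain ⟨F, _, _, hc, ⟨e⟩⟩ := hL
    exact HZ0.of_equiv e.symm ((hz_sl2 h2 hM F).quot hM _)
  · obtain ⟨P⟩ : Nonempty (Sylow p S) := inferInstance
    exact absurd (hA P) (H858.NRowLie.notAb_of_lie h2 h hL P)

theorem rowSz (hp : p.Prime) (h2 : p ≠ 2) : Row p fun S _ => Lie.IsoSuzuki S := by
  have : Fact p.Prime := ⟨hp⟩
  intro M hM S _ _ hs hn h _ _ hc
  obtain ⟨P⟩ : Nonempty (Sylow p S) := inferInstance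
  exact absurd (OddRank.SzTits.isCyclic_of_isPGroup h h2 _ P.2) (hc P)

theorem rowRee (hp : p.Prime) (h2 : p ≠ 2) : Row p (ReeX p) := by
  have : Fact p.Prime := ⟨hp⟩
  intro M hM S _ _ hs hn h _ _ hc
  obtain ⟨P⟩ : Nonempty (Sylow p S) := inferInstance
  have h3 : 3 < p := by
    have := hp.two_le
    have := h.1
    omega
  exact absurd (H315.RatB0.isCyclic_ree h.2 h3 _ P.2) (hc P)

theorem easy_of (hp : p.Prime) (h2 : p ≠ 2) (alt : Row p fun S _ => IsAlternating S)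
    (spor : Row p fun S _ => IsSporadicGroup S) (tits : Row p fun S _ => Lie.IsoTits S) : Easy p :=
  ⟨alt, spor, tits, rowOwn hp h2, rowSz hp h2, rowRee hp h2⟩

theorem row_chev3 {D : Lie.ChevalleyDatum} (hD : D ∈ [Lie.chevG2, Lie.chevF4, Lie.chevE6, Lie.chevE7, Lie.chevE8])
    (c : ℕ) : Row 3 (ChevX 3 D c) := by
  rintro M hM S _ _ hs hn ⟨F, _, _, h3, -, ⟨e⟩⟩ hA - -
  exact absurd (hA.of_equiv e) (H371.HT.not_ab_untw hD h3)

/-- **the exceptional rows for `p = 3` are empty** -/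
theorem exc_three : Exc 3 where
  g2 := row_chev3 (by simp) _
  f4 := row_chev3 (by simp) _
  e6 := row_chev3 (by simp) _
  e7 := row_chev3 (by simp) _
  e8 := row_chev3 (by simp) _
  tw6 := by
    rintro M hM S _ _ hs hn ⟨F, _, _, q, h3, hq, hF, ⟨e⟩⟩ hA - -
    exact absurd (hA.of_equiv e) (H371.HT.not_ab_twE6 hq hF h3)
  tw4 := by
    rintro M hM S _ _ hs hn ⟨F, _, _, q, h3, hq, hF, ⟨e⟩⟩ hA - -
    exact absurd (hA.of_equiv e) (H371.HT.not_ab_twD4 hq hF h3)
  tf4 := by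
    rintro M hM S _ _ hs hn h hA - -
    exact absurd hA (H371.HT.not_ab_iso2F4 h)

/-- the row `E₈` for `p = 5` is empty -/
theorem e8_five : Row 5 (ChevX 5 Lie.chevE8 0) := by
  rintro M hM S _ _ hs hn ⟨F, _, _, h3, -, ⟨e⟩⟩ hA - -
  exact absurd (hA.of_equiv e) (H371.HT.not_ab_e8_five h3)

end Cfsg.Agent.LV
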