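import Cfsg.Agent.LV.Red.Ab
import Cfsg.Agent.S0000
import Cfsg.Agent.S1068
import Cfsg.Agent.S4194
import Cfsg.Agent.S4597
import Cfsg.Agent.S4599
import Cfsg.Agent.S4736
import Cfsg.Agent.S4933
import Cfsg.Agent.H567.PCentSimple
import Cfsg.Agent.H596.Degree
import Cfsg.Agent.H633.Principal
import Cfsg.Agent.H684.CoverCount
import Cfsg.Agent.NotCT.Orders
import Cfsg.Agent.BHZ.Exc.TF4
import Cfsg.Agent.OddOrderLocal.SigmaCompl809

/-!
# LV: the direction from right to left of S4598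
-/

set_option autoImplicit false

namespace Cfsg.Agent.LV

open Cfsg Subgroup
open Cfsg.Agent.H573 (PCent)

universe u

variable {p : ℕ} {M : Ideal AlgInt}

theorem HZ0.normal {G : Type u} [Group G] [Finite G] [Fact p.Prime] (hM : IsPModular p M) (h : HZ0 p M G)
    (N : Subgroup G) [N.Normal] : HZ0 p M N := by
  classical
  have := Fintype.ofFinite G
  have := Fintype.ofFinite N
  intro θ hθ hd
  obtain ⟨χ, hχ, h1⟩ := H684.CoverCount.exists_over hM N θ hθ
  obtain ⟨h2, -⟩ := Cfsg.Agent.S0887.result N (χ : G → ℂ) χ.2 (θ : N → ℂ) θ.2 h1 _ _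
    (Cfsg.Agent.Blocks.Basic.irr_one_eq_charDegree χ.2) (Cfsg.Agent.Blocks.Basic.irr_one_eq_charDegree θ.2)
  exact h χ hχ (hd.trans h2)

theorem HZ0.quot {G : Type u} [Group G] [Finite G] (hM : IsPModular p M) (h : HZ0 p M G)
    (N : Subgroup G) [N.Normal] : HZ0 p M (G ⧸ N) := by
  have := hM.2.1.isPrime
  intro θ hθ hd
  refine h _ (H633.Principal.inflate_mem N hθ) ?_
  have h1 : charDegree (H633.Principal.infl N θ : G → ℂ) = charDegree (θ : G ⧸ N → ℂ) := by
    apply deg_eq_of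
    rw [H633.Principal.infl_apply]
    rfl
  rw [h1]
  exact hd

/-- a Sylow subgroup with an abelian subgroup of index `p` -/
theorem abS_of_index {G : Type u} [Group G] [Finite G] [hp : Fact p.Prime] (hM : IsPModular p M) (h : HZ0 p M G)
    (P : Sylow p G) (B : Subgroup ↥(P : Subgroup G)) (hB : B.index ∣ p) (hc : ∀ a b : B, a * b = b * a) : AbS p G := by
  classical
  have := hM.2.1.isPrime
  have := Fintype.ofFinite ↥(P : Subgroup G)
  have := Fintype.ofFinite B
  have hBn : B.Normal := by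
    rcases (Nat.dvd_prime hp.out).1 hB with h1 | h1
    · rw [Subgroup.index_eq_one.1 h1]
      infer_instance
    · refine Subgroup.normal_of_index_eq_minFac_card ?_
      obtain ⟨k, hk⟩ := IsPGroup.iff_card.1 P.2
      have h3 : p ∣ p ^ k := (dvd_of_eq h1.symm).trans (B.index_dvd_card.trans (dvd_of_eq hk))
      have hk0 : k ≠ 0 := by
        rintro rfl
        exact hp.out.one_lt.ne' (Nat.dvd_one.1 h3)
      rw [hk, hp.out.pow_minFac hk0, h1]
  have hcd : ∀ φ : IrrCharacter ↥(P : Subgroup G), charDegree (φ : ↥(P : Subgroup G) → ℂ) = 1 ∨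
      charDegree (φ : ↥(P : Subgroup G) → ℂ) = p ^ 1 := by
    intro φ
    obtain ⟨θ, hθ⟩ := H921.EB515.exists_under B φ
    obtain ⟨-, h3⟩ := Cfsg.Agent.S0887.result B _ φ.2 _ θ.2 hθ _ 1
      (Cfsg.Agent.Blocks.Basic.irr_one_eq_charDegree φ.2)
      (by rw [Characters.CCBasic.irr_apply_one_of_comm hc θ.2, Nat.cast_one])
    rw [Nat.div_one] at h3
    rw [pow_one]
    exact (Nat.dvd_prime hp.out).1 (h3.trans hB)
  by_cases hex : ∃ φ : IrrCharacter ↥(P : Subgroup G), charDegree (φ : ↥(P : Subgroup G) → ℂ) = p ^ 1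
  · obtain ⟨χ, hχ, h1, -⟩ := S4933.result p M hM P 1 one_pos hcd hex
    rw [S4736.blockHeight_principal] at h1
    exact absurd (Nat.dvd_of_factorization_pos h1.ne') (h χ hχ)
  · refine abS_of_one P fun a ha b hb => ?_
    exact congrArg Subtype.val (H596.comm_of_charDegree_eq_one
      (fun φ => (hcd φ).resolve_right fun h1 => hex ⟨φ, h1⟩) ⟨a, ha⟩ ⟨b, hb⟩)

/-- Sylow subgroups of order `p ^ 3` -/
theorem abS_of_cube {G : Type u} [Group G] [Finite G] [hp : Fact p.Prime] (hM : IsPModular p M) (h : HZ0 p M G)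
    (h3 : (Nat.card G).factorization p = 3) : AbS p G := by
  obtain ⟨P⟩ : Nonempty (Sylow p G) := inferInstance
  have hP : Nat.card ↥(P : Subgroup G) = p ^ 3 := by rw [P.card_eq_multiplicity, h3]
  obtain ⟨B, hB⟩ := Sylow.exists_subgroup_card_pow_prime (G := ↥(P : Subgroup G)) p (n := 2)
    (by rw [hP]; exact pow_dvd_pow p (by norm_num))
  refine abS_of_index hM h P B ?_ ?_
  · have h1 := B.card_mul_index
    rw [hB, hP, pow_succ p 2] at h1
    rw [Nat.eq_of_mul_eq_mul_left (pow_pos hp.out.pos 2) h1]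
  · exact (IsPGroup.commGroupOfCardEqPrimeSq hB).mul_comm

/-- the large Ree groups -/
theorem abS_tf4 {G : Type u} [Group G] [Finite G] (hM : IsPModular 3 M) (h : HZ0 3 M G) (hG : Lie.Iso2F4 G) :
    AbS 3 G := by
  have : Fact (Nat.Prime 3) := ⟨Nat.prime_three⟩
  obtain ⟨K, _, _, m, hm, hK, ⟨e⟩⟩ := hG
  have hc2 : CharP K 2 := ChevalleyStructure.F4Fixed.charP_two hK
  obtain ⟨r, e', hpF, hpc, hpk, he, hpe, hk⟩ := H129.TorusUntw.exists_closure hK
  have hp2 : r = 2 := CharP.eq K hpc hc2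
  subst hp2
  obtain ⟨P⟩ : Nonempty (Sylow 3 G) := inferInstance
  have hn := P.2.isNilpotent
  have hodd : ¬ 2 ∣ Nat.card ↥(P : Subgroup G) := by
    obtain ⟨k, hk⟩ := IsPGroup.iff_card.1 P.2
    rw [hk]
    intro h1
    have := Nat.prime_two.dvd_of_dvd_pow h1
    omega
  obtain ⟨B, hB, g, hg⟩ := BHZ.Exc.TF.exists_tor_three hK (algebraMap K (AlgebraicClosure K)) hk
    (e.toMonoidHom.comp (P : Subgroup G).subtype) hodd
  refine abS_of_index hM h P B hB fun a b => ?_
  have h1 := BpExc.TorChev.TT_comm H493.F4Tor.hp _ (hg a a.2) _ (hg b b.2)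
  have h2 : ∀ x y z : ↥(Lie.chevF4.group (AlgebraicClosure K)), z⁻¹ * x * z * (z⁻¹ * y * z) = z⁻¹ * (x * y) * z := by
    intro x y z; group
  rw [h2, h2, ← map_mul, ← map_mul, ← map_mul, ← map_mul] at h1
  have h3 := H759.TwF.eF_injective _ (mul_left_cancel (mul_right_cancel h1))
  exact Subtype.ext (Subtype.ext (e.injective h3))

theorem five_dvd_tf4 {G : Type u} [Group G] (hG : Lie.Iso2F4 G) : 5 ∣ Nat.card G := by
  obtain ⟨K, _, _, m, hm, hK, ⟨e⟩⟩ := hG
  rw [Nat.card_congr e.toEquiv, S1068.result hK]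
  refine Dvd.dvd.mul_right (Dvd.dvd.mul_left ?_ _) _
  have h1 : (2 ^ (2 * m + 1)) ^ 4 = 16 ^ (2 * m + 1) := by
    rw [← pow_mul, mul_comm (2 * m + 1) 4, pow_mul]; norm_num
  rw [h1]
  have h2 := Nat.sub_dvd_pow_sub_pow 16 1 (2 * m + 1)
  rw [one_pow] at h2
  exact (by norm_num : 5 ∣ 16 - 1).trans h2

theorem fact_of {n a k : ℕ} (hp : p.Prime) (h : n = p ^ k * a) (ha : ¬ p ∣ a) : n.factorization p = k := by
  have ha0 : a ≠ 0 := by rintro rfl; exact ha (dvd_zero _)
  rw [h, Nat.factorization_mul (pow_pos hp.pos k).ne' ha0, Finsupp.add_apply, hp.factorization_pow,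
    Finsupp.single_eq_same, Nat.factorization_eq_zero_of_not_dvd ha, add_zero]

theorem abS_of_hall {G : Type u} [Group G] [Finite G] [Fact p.Prime] {H : Subgroup G} (hi : ¬ p ∣ H.index)
    (hc : IsMulCommutative H) : AbS p G := by
  obtain ⟨P, hP⟩ := H573.exists_sylow_le_of_index H hi
  exact abS_of_one P fun a ha b hb => congrArg Subtype.val (hc.is_comm.comm ⟨a, hP ha⟩ ⟨b, hP hb⟩)

/-- the extra condition for `p = 3` and `p = 5` -/
def Extra (p : ℕ) (M : Ideal AlgInt) (G : Type u) [Group G] : Prop :=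
  (p = 3 ∨ p = 5) → H630.NH.Cond {3, 5} G ∨ HZ0 p M G

theorem abS_simple {G : Type u} [Group G] [Finite G] [IsSimpleGroup G] [hp : Fact p.Prime] (hM : IsPModular p M)
    (hc : PCent p G) (hE : Extra p M G) : AbS p G := by
  by_cases hn : IsMulCommutative G
  · exact abS_iff.2 fun P a _ b _ => hn.is_comm.comm a b
  by_cases h2 : p = 2
  · subst h2
    exact fun P => (S4194.result P).2 fun x hx => H573.exists_sylow_le_of_index _ (hc x hx)
  have : Fact (Nat.Prime 3) := ⟨Nat.prime_three⟩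
  have : Fact (Nat.Prime 5) := ⟨Nat.prime_five⟩
  have both : H630.NH.Cond {3, 5} G → 3 ∣ Nat.card G → 5 ∣ Nat.card G → AbS 3 G ∧ AbS 5 G := by
    intro h h3 h5
    obtain ⟨-, -, H, hH, hHc⟩ := S4599.result hn 3 5 (by norm_num) h3 h5
      (h 3 (by simp) 5 (by simp) (by norm_num)) (h 5 (by simp) 3 (by simp) (by norm_num))
    exact ⟨abS_of_hall (hH.2 3 Nat.prime_three (by simp)) hHc, abS_of_hall (hH.2 5 Nat.prime_five (by simp)) hHc⟩
  by_contra hS
  have hd : p ∣ Nat.card G := by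
    by_contra hd
    apply hS
    refine abS_iff.2 fun P a ha b hb => ?_
    have h1 : (P : Subgroup G) = ⊥ := by
      rw [← Subgroup.card_eq_one, P.card_eq_multiplicity, Nat.factorization_eq_zero_of_not_dvd hd, pow_zero]
    rw [h1, mem_bot] at ha
    rw [ha, one_mul, mul_one]
  rcases H567.PCentSimple.known (G := G) S0000.result h2 hc with h1 | ⟨rfl, h1⟩ | ⟨rfl, h1⟩
  · exact hS h1
  · apply hS
    rcases hE (.inl rfl) with h | h
    · refine (both h hd ?_).1
      rcases h1 with h1 | h1 | h1 | h1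
      · rw [NotCT.Orders.tits h1]; norm_num
      · rw [NotCT.Orders.j4 h1]; norm_num
      · rw [NotCT.Orders.ru h1]; norm_num
      · exact five_dvd_tf4 h1
    · rcases h1 with h1 | h1 | h1 | h1
      · exact abS_of_cube hM h (fact_of (a := 665600) Nat.prime_three (by rw [NotCT.Orders.tits h1]; norm_num)
          (by norm_num))
      · exact abS_of_cube hM h (fact_of (a := 3213910038743613440) Nat.prime_three
          (by rw [NotCT.Orders.j4 h1]; norm_num) (by norm_num))
      · exact abS_of_cube hM h (fact_of (a := 5404672000) Nat.prime_three (by rw [NotCT.Orders.ru h1]; norm_num)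
          (by norm_num))
      · exact abS_tf4 hM h h1
  · apply hS
    rcases hE (.inr rfl) with h | h
    · refine (both h ?_ hd).2
      rw [NotCT.Orders.th h1]; norm_num
    · exact abS_of_cube hM h (fact_of (a := 725967551102976) Nat.prime_five (by rw [NotCT.Orders.th h1]; norm_num)
        (by norm_num))

theorem abS_of_extra [Fact p.Prime] (hM : IsPModular p M) :
    ∀ (n : ℕ) (G : Type u) [Group G] [Finite G], Nat.card G = n → PCent p G → Extra p M G → AbS p G := by
  intro n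
  induction n using Nat.strong_induction_on with
  | _ n ih =>
  intro G _ _ hn hc hE
  by_cases hs : IsSimpleGroup G
  · exact abS_simple hM hc hE
  rcases subsingleton_or_nontrivial G with h0 | h0
  · exact abS_iff.2 fun P a _ b _ => Subsingleton.elim _ _
  have hN : ∃ N : Subgroup G, N.Normal ∧ N ≠ ⊥ ∧ N ≠ ⊤ := by
    by_contra h1
    push Not at h1
    exact hs ⟨fun N hN => (em (N = ⊥)).imp id (h1 N hN)⟩
  obtain ⟨N, hN, h1, h2⟩ := hN
  have hπ : ∀ r ∈ ({3, 5} : Set ℕ), r.Prime := by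
    rintro r (rfl | rfl)
    · exact Nat.prime_three
    · exact Nat.prime_five
  refine H573.abelian_of_normal hc N ?_ ?_
  · exact ih _ (hn ▸ card_lt_of_ne_top h2) N rfl (H573.pcent_normal hc N)
      fun h => (hE h).imp (fun h3 => h3.normal N) (fun h3 => h3.normal hM N)
  · exact ih _ (hn ▸ card_quot_lt h1) (G ⧸ N) rfl (H573.pcent_quotient hc N)
      fun h => (hE h).imp (fun h3 => h3.of_surjective hπ _ (QuotientGroup.mk'_surjective N)) (fun h3 => h3.quot hM N)

/-- **the direction from right to left** -/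
theorem back {G : Type u} [Group G] [Finite G] (π : Set ℕ) (hπ : ∀ p ∈ π, p.Prime) (M : ℕ → Ideal AlgInt)
    (hM : ∀ p ∈ π, IsPModular p (M p))
    (h1 : ∀ p ∈ π, ∀ x : G, (∃ k : ℕ, orderOf x = p ^ k) → ∀ q ∈ π, ¬ q ∣ (centralizer ({x} : Set G)).index)
    (h2 : ∀ p ∈ π, (p = 3 ∨ p = 5) → ¬ (3 ∈ π ∧ 5 ∈ π) → HZ0 p (M p) G) :
    ∃ H : Subgroup G, IsPiHall π H ∧ IsMulCommutative H := by
  have hc : H630.NH.Cond π G := fun p hp q hq _ x hx => h1 p hp x hx q hq
  obtain ⟨H, hH, hn⟩ := (S4597.result π hπ).2 hc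
  refine ⟨H, hH, OddOrderLocal.SigmaCompl809.isMulCommutative_of_nilpotent fun p hp P hd => ?_⟩
  have hpπ := hH.1 p hp.out hd
  have hA : AbS p G := by
    refine abS_of_extra (hM p hpπ) _ G rfl (fun x hx => h1 p hpπ x hx p hpπ) fun h => ?_
    by_cases h35 : 3 ∈ π ∧ 5 ∈ π
    · refine .inl (hc.mono ?_)
      rintro r (rfl | rfl)
      · exact h35.1
      · exact h35.2
    · exact .inr (h2 p hpπ h h35)
  exact hA.sub H P

end Cfsg.Agent.LV
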